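import Mathlib.CategoryTheory.Triangulated.Pretriangulated
import Mathlib.CategoryTheory.Triangulated.Triangulated
import Mathlib.Algebra.Homology.HomologicalComplex

/-! Postnikov systems: vanishing, existence and uniqueness of morphisms. -/

universe v u

open CategoryTheory CategoryTheory.Limits CategoryTheory.Pretriangulated

namespace Groth.L10.Post

variable {D : Type u} [Category.{v} D] [Preadditive D] [HasShift D ℤ]

/-- Vanishing of all morphisms between two shifts. -/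
def Van (P Q : D) (a b : ℤ) : Prop := ∀ ψ : P⟦a⟧ ⟶ Q⟦b⟧, ψ = 0

omit [HasShift D ℤ] in
theorem eq_zero_of_isos {P P' Q Q' : D} (e : P ≅ P') (e' : Q ≅ Q') (h : ∀ ψ : P ⟶ Q, ψ = 0) (ψ : P' ⟶ Q') :
    ψ = 0 := by
  have := h (e.hom ≫ ψ ≫ e'.inv)
  rw [← cancel_epi e.hom, ← cancel_mono e'.inv, Category.assoc, this, comp_zero, zero_comp]

theorem Van.shift [∀ n : ℤ, (shiftFunctor D n).Additive] {P Q : D} {a b : ℤ} (h : Van P Q a b) {a' b' : ℤ}
    (e : b' - a' = b - a) : Van P Q a' b' := fun ψ => by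
  refine eq_zero_of_isos ((shiftFunctorAdd' D a (a' - a) a' (by omega)).app P).symm
    ((shiftFunctorAdd' D b (a' - a) b' (by omega)).app Q).symm (fun φ => ?_) ψ
  obtain ⟨φ₀, rfl⟩ := (shiftFunctor D (a' - a)).map_surjective φ
  rw [h φ₀, Functor.map_zero]

theorem Van.zero_left {P Q : D} {b : ℤ} (h : Van P Q 0 b) (ψ : P ⟶ Q⟦b⟧) : ψ = 0 :=
  eq_zero_of_isos ((shiftFunctorZero D ℤ).app P) (Iso.refl _) h ψ

theorem Van.zero_right {P Q : D} {a : ℤ} (h : Van P Q a 0) (ψ : P⟦a⟧ ⟶ Q) : ψ = 0 :=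
  eq_zero_of_isos (Iso.refl _) ((shiftFunctorZero D ℤ).app Q) h ψ

theorem Van.zero_zero {P Q : D} (h : Van P Q 0 0) (ψ : P ⟶ Q) : ψ = 0 :=
  eq_zero_of_isos ((shiftFunctorZero D ℤ).app P) ((shiftFunctorZero D ℤ).app Q) h ψ

theorem van_of_right {P Q : D} {a : ℤ} (h : ∀ ψ : P⟦a⟧ ⟶ Q, ψ = 0) : Van P Q a 0 :=
  eq_zero_of_isos (Iso.refl _) ((shiftFunctorZero D ℤ).app Q).symm h

theorem van_of_left {P Q : D} {b : ℤ} (h : ∀ ψ : P ⟶ Q⟦b⟧, ψ = 0) : Van P Q 0 b :=
  eq_zero_of_isos ((shiftFunctorZero D ℤ).app P).symm (Iso.refl _) h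

variable [HasZeroObject D] [∀ n : ℤ, (shiftFunctor D n).Additive] [Pretriangulated D]
  {X : ChainComplex D ℕ} {n : ℕ}
  (Y : ℕ → D) (a : ∀ k, Y k ⟶ X.X k) (b : ∀ k, X.X (k + 1) ⟶ Y k)
  (c : ∀ k, Y k ⟶ (shiftFunctor D (1 : ℤ)).obj (Y (k + 1)))
  (hP : ∀ k, k < n → Triangle.mk (a (k + 1)) (b k) (c k) ∈ distinguishedTriangles)
  (h0 : IsIso (a 0))

include h0 hP in
theorem van_to : ∀ m, m ≤ n → ∀ (T : D) (s : ℤ),
    (∀ l, l ≤ m → Van T (X.X l) s ((l : ℤ) - m)) → Van T (Y m) s 0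
  | 0, _, T, s, h => van_of_right fun ψ => by
    rw [← cancel_mono (a 0), zero_comp]
    exact ((h 0 le_rfl).shift (a' := s) (b' := 0) (by simp)).zero_right _
  | m + 1, hm, T, s, h => van_of_right fun ψ => by
    have hT := hP m (by omega)
    have h1 : ψ ≫ a (m + 1) = 0 := ((h (m + 1) le_rfl).shift (a' := s) (b' := 0) (by simp)).zero_right _
    obtain ⟨g, hg⟩ := Triangle.coyoneda_exact₂ _ (inv_rot_of_distTriang _ hT) ψ h1
    have ih : Van T (Y m) (s + 1) 0 := van_to m (by omega) T (s + 1)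
      fun l hl => (h l (by omega)).shift (by push_cast; omega)
    rw [hg, ih.shift (a' := s) (b' := -1) (by omega) g]
    exact zero_comp

include h0 hP in
theorem van_from : ∀ m, m ≤ n → ∀ (T : D) (s : ℤ),
    (∀ l, l ≤ m → Van (X.X l) T ((l : ℤ) - m) s) → Van (Y m) T 0 s
  | 0, _, T, s, h => van_of_left fun ψ => by
    rw [← cancel_epi (inv (a 0)), comp_zero]
    exact ((h 0 le_rfl).shift (a' := 0) (b' := s) (by simp)).zero_left _
  | m + 1, hm, T, s, h => van_of_left fun ψ => by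
    have hT := rot_of_distTriang _ (rot_of_distTriang _ (hP m (by omega)))
    have ih : Van (Y m) T 0 (s + 1) := van_from m (by omega) T (s + 1)
      fun l hl => (h l (by omega)).shift (by push_cast; omega)
    have h1 : c m ≫ ψ⟦(1 : ℤ)⟧' = 0 :=
      eq_zero_of_isos (Iso.refl _) ((shiftFunctorAdd' D s 1 (s + 1) rfl).app T) ih.zero_left _
    obtain ⟨g, hg⟩ := Triangle.yoneda_exact₂ _ hT (ψ⟦(1 : ℤ)⟧') h1
    obtain ⟨g', rfl⟩ := (shiftFunctor D (1 : ℤ)).map_surjective g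
    refine (shiftFunctor D (1 : ℤ)).map_injective ?_
    have hg' : g' = 0 := ((h (m + 1) le_rfl).shift (a' := 0) (b' := s) (by simp)).zero_left g'
    rw [hg', Functor.map_zero] at hg
    exact (hg.trans comp_zero).trans (Functor.map_zero _ _ _).symm

include h0 hP in
/-- A map into a stage killed by `a` vanishes as soon as maps into the previous stages vanish. -/
theorem eq_zero_of_comp_a (m : ℕ) (hm : m + 1 ≤ n) (T : D)
    (h : ∀ l, l ≤ m → Van T (X.X l) 1 ((l : ℤ) - m)) (f : T ⟶ Y (m + 1)) (hf : f ≫ a (m + 1) = 0) : f = 0 := by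
  obtain ⟨g, hg⟩ := Triangle.coyoneda_exact₂ _ (inv_rot_of_distTriang _ (hP m (by omega))) f hf
  rw [hg, ((van_to Y a b c hP h0 m (by omega) T 1 h).shift (a' := 0) (b' := -1) (by omega)).zero_left g]
  exact zero_comp

end Groth.L10.Post
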