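import Groth.Agent.L10.Post.Basic

/-! Existence of Postnikov systems and of their morphisms. -/

universe v u

open CategoryTheory CategoryTheory.Limits CategoryTheory.Pretriangulated

namespace Groth.L10.Post

variable {D : Type u} [Category.{v} D] [Preadditive D] [HasShift D ℤ] [HasZeroObject D]
  [∀ n : ℤ, (shiftFunctor D n).Additive] [Pretriangulated D]
  (X : ChainComplex D ℕ)

/-- A stage of a system. -/
structure Stage (k : ℕ) where
  Y : D
  a : Y ⟶ X.X k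

open Classical in
/-- The next lift of the differential. -/
noncomputable def lift {k : ℕ} (S : Stage X k) : X.X (k + 1) ⟶ S.Y :=
  if h : ∃ b, b ≫ S.a = X.d (k + 1) k then h.choose else 0

/-- The stages. -/
noncomputable def stage : ∀ k, Stage X k
  | 0 => ⟨X.X 0, 𝟙 _⟩
  | k + 1 => ⟨_, (distinguished_cocone_triangle₁ (lift X (stage k))).choose_spec.choose⟩

theorem exists_system (n : ℕ) (hX : ∀ i j : ℕ, j + 2 < i → i ≤ n → Van (X.X i) (X.X j) ((i : ℤ) - j - 2) 0) :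
    ∃ (Y : ℕ → D) (a : ∀ k, Y k ⟶ X.X k) (b : ∀ k, X.X (k + 1) ⟶ Y k) (c : ∀ k, Y k ⟶ (shiftFunctor D (1 : ℤ)).obj (Y (k + 1))),
      IsIso (a 0) ∧ ∀ k, k < n → Triangle.mk (a (k + 1)) (b k) (c k) ∈ distinguishedTriangles ∧ b k ≫ a k = X.d (k + 1) k := by
  let Y := fun k => (stage X k).Y
  let a : ∀ k, Y k ⟶ X.X k := fun k => (stage X k).a
  let b : ∀ k, X.X (k + 1) ⟶ Y k := fun k => lift X (stage X k)
  let c : ∀ k, Y k ⟶ (Y (k + 1))⟦(1 : ℤ)⟧ := fun k =>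
    (distinguished_cocone_triangle₁ (lift X (stage X k))).choose_spec.choose_spec.choose
  have h0 : IsIso (a 0) := inferInstanceAs (IsIso (𝟙 (X.X 0)))
  have hT : ∀ k, Triangle.mk (a (k + 1)) (b k) (c k) ∈ distinguishedTriangles := fun k =>
    (distinguished_cocone_triangle₁ (lift X (stage X k))).choose_spec.choose_spec.choose_spec
  refine ⟨Y, a, b, c, h0, fun k hk => ⟨hT k, ?_⟩⟩
  have key : ∀ k, (∃ β : X.X (k + 1) ⟶ Y k, β ≫ a k = X.d (k + 1) k) → b k ≫ a k = X.d (k + 1) k := fun k h => by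
    simp only [b, lift]
    rw [dif_pos h]
    exact h.choose_spec
  induction k using Nat.strong_induction_on with
  | _ k ih =>
    refine key k ?_
    rcases k with _ | k
    · exact ⟨X.d 1 0, Category.comp_id _⟩
    · have hb := ih k (by omega) (by omega)
      have hz : X.d (k + 1 + 1) (k + 1) ≫ b k = 0 := by
        have h1 : (X.d (k + 1 + 1) (k + 1) ≫ b k) ≫ a k = 0 := by rw [Category.assoc, hb, X.d_comp_d]
        rcases k with _ | k
        · rw [← cancel_mono (a 0), h1, zero_comp]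
        · exact eq_zero_of_comp_a Y a b c (n := n) (fun k _ => hT k) h0 k (by omega) _ (fun l hl =>
            (hX (k + 1 + 1 + 1) l (by omega) (by omega)).shift (by push_cast; omega)) _ h1
      obtain ⟨β, hβ⟩ := Triangle.coyoneda_exact₂ _ (hT k) (X.d (k + 1 + 1) (k + 1)) hz
      exact ⟨β, hβ.symm⟩

variable {X} {X' : ChainComplex D ℕ} (φ : X ⟶ X') (n : ℕ)
  (Y : ℕ → D) (a : ∀ k, Y k ⟶ X.X k) (b : ∀ k, X.X (k + 1) ⟶ Y k)
  (c : ∀ k, Y k ⟶ (shiftFunctor D (1 : ℤ)).obj (Y (k + 1)))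
  (hP : ∀ k, k < n → Triangle.mk (a (k + 1)) (b k) (c k) ∈ distinguishedTriangles ∧ b k ≫ a k = X.d (k + 1) k)
  (qY : ℕ → D) (qa : ∀ k, qY k ⟶ X'.X k) (qb : ∀ k, X'.X (k + 1) ⟶ qY k)
  (qc : ∀ k, qY k ⟶ (shiftFunctor D (1 : ℤ)).obj (qY (k + 1)))
  (qh0 : IsIso (qa 0))
  (qhP : ∀ k, k < n → Triangle.mk (qa (k + 1)) (qb k) (qc k) ∈ distinguishedTriangles ∧ qb k ≫ qa k = X'.d (k + 1) k)

open Classical in
/-- The components of a morphism. -/
noncomputable def yMap : ∀ k, Y k ⟶ qY k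
  | 0 => a 0 ≫ φ.f 0 ≫ inv (qa 0) (I := qh0)
  | k + 1 => if h : ∃ y' : Y (k + 1) ⟶ qY (k + 1), a (k + 1) ≫ φ.f (k + 1) = y' ≫ qa (k + 1) ∧
      c k ≫ y'⟦(1 : ℤ)⟧' = yMap k ≫ qc k then h.choose else 0

include hP qh0 qhP in
theorem exists_morphism (hX : ∀ i j : ℕ, j + 1 < i → i ≤ n → Van (X.X i) (X'.X j) ((i : ℤ) - j - 1) 0) :
    ∃ y : ∀ k, Y k ⟶ qY k,
      (∀ k, k ≤ n → y k ≫ qa k = a k ≫ φ.f k) ∧
      (∀ k, k < n → b k ≫ y k = φ.f (k + 1) ≫ qb k ∧ c k ≫ (shiftFunctor D (1 : ℤ)).map (y (k + 1)) = y k ≫ qc k) := by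
  let y := yMap φ Y a c qY qa qc qh0
  have hb : ∀ k, k < n → y k ≫ qa k = a k ≫ φ.f k → b k ≫ y k = φ.f (k + 1) ≫ qb k := fun k hk hy => by
    have h1 : (b k ≫ y k - φ.f (k + 1) ≫ qb k) ≫ qa k = 0 := by
      rw [Preadditive.sub_comp, Category.assoc, hy, ← Category.assoc, (hP k hk).2, Category.assoc, (qhP k hk).2,
        φ.comm, sub_self]
    rw [← sub_eq_zero]
    rcases k with _ | k
    · rw [← cancel_mono (qa 0), h1, zero_comp]
    · exact eq_zero_of_comp_a qY qa qb qc (n := n) (fun k hk => (qhP k hk).1) qh0 k (by omega) _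
        (fun l hl => (hX (k + 1 + 1) l (by omega) (by omega)).shift (by push_cast; omega)) _ h1
  have hstep : ∀ k, k < n → y k ≫ qa k = a k ≫ φ.f k →
      a (k + 1) ≫ φ.f (k + 1) = y (k + 1) ≫ qa (k + 1) ∧ c k ≫ (y (k + 1))⟦(1 : ℤ)⟧' = y k ≫ qc k := fun k hk hy => by
    have hex : ∃ y' : Y (k + 1) ⟶ qY (k + 1), a (k + 1) ≫ φ.f (k + 1) = y' ≫ qa (k + 1) ∧
        c k ≫ y'⟦(1 : ℤ)⟧' = y k ≫ qc k :=
      complete_distinguished_triangle_morphism₁ _ _ (hP k hk).1 (qhP k hk).1 (φ.f (k + 1)) (y k) (hb k hk hy)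
    simp only [y, yMap] at hex ⊢
    rw [dif_pos hex]
    exact hex.choose_spec
  have hall : ∀ k, k ≤ n → y k ≫ qa k = a k ≫ φ.f k := by
    intro k
    induction k with
    | zero => intro _; simp [y, yMap]
    | succ k ih => exact fun hk => (hstep k (by omega) (ih (by omega))).1.symm
  exact ⟨y, hall, fun k hk => ⟨hb k hk (hall k (by omega)), (hstep k hk (hall k (by omega))).2⟩⟩

variable (y z : ∀ k, Y k ⟶ qY k)
    (hy : (∀ k, k ≤ n → y k ≫ qa k = a k ≫ φ.f k) ∧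
      (∀ k, k < n → b k ≫ y k = φ.f (k + 1) ≫ qb k ∧ c k ≫ (shiftFunctor D (1 : ℤ)).map (y (k + 1)) = y k ≫ qc k))
    (hz : (∀ k, k ≤ n → z k ≫ qa k = a k ≫ φ.f k) ∧
      (∀ k, k < n → b k ≫ z k = φ.f (k + 1) ≫ qb k ∧ c k ≫ (shiftFunctor D (1 : ℤ)).map (z (k + 1)) = z k ≫ qc k))

include hP qhP qh0 hy hz in
theorem morphism_unique (h0 : IsIso (a 0)) (hv₁ : ∀ i j : ℕ, 0 < i → i ≤ j → j ≤ n → Van (X.X (j - i)) (X'.X j) (1 - (i : ℤ)) 0)
    (hv₂ : ∀ i j : ℕ, 0 < i → i ≤ j → j ≤ n → Van (X.X j) (X'.X (j - i)) 0 (-(i : ℤ))) :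
    ∀ k, k ≤ n → y k = z k
  | 0, hk => by rw [← cancel_mono (qa 0), hy.1 0 hk, hz.1 0 hk]
  | k + 1, hk => by
    have ih := morphism_unique h0 hv₁ hv₂ k (by omega)
    rw [← sub_eq_zero]
    have hc : c k ≫ (y (k + 1) - z (k + 1))⟦(1 : ℤ)⟧' = 0 := by
      rw [Functor.map_sub, Preadditive.comp_sub, (hy.2 k (by omega)).2, (hz.2 k (by omega)).2, ih, sub_self]
    have hT := rot_of_distTriang _ (rot_of_distTriang _ (hP k (by omega)).1)
    obtain ⟨g, hg⟩ := Triangle.yoneda_exact₂ _ hT _ hc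
    obtain ⟨g', rfl⟩ := (shiftFunctor D (1 : ℤ)).map_surjective g
    obtain ⟨g, rfl⟩ : ∃ g : X.X (k + 1) ⟶ qY (k + 1), g = g' := ⟨g', rfl⟩
    have hw : y (k + 1) - z (k + 1) = a (k + 1) ≫ (-g) := (shiftFunctor D (1 : ℤ)).map_injective (by
      rw [Functor.map_comp, Functor.map_neg, Preadditive.comp_neg]
      exact hg.trans (Preadditive.neg_comp _ _))
    have h1 : a (k + 1) ≫ (-g) ≫ qa (k + 1) = 0 := by
      rw [← Category.assoc, ← hw, Preadditive.sub_comp, hy.1 _ hk, hz.1 _ hk, sub_self]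
    obtain ⟨h, hh⟩ := Triangle.yoneda_exact₂ _ (hP k (by omega)).1 _ h1
    have h2 : (-g) ≫ qa (k + 1) = 0 := by
      rw [hh, ((van_from Y a b c (fun k hk => (hP k hk).1) h0 k (by omega) (X'.X (k + 1)) 0 (fun l hl => ?_))).zero_zero h]
      · exact comp_zero
      · have := hv₁ (k + 1 - l) (k + 1) (by omega) (by omega) hk
        rw [show k + 1 - (k + 1 - l) = l by omega] at this
        exact this.shift (by omega)
    rw [hw, eq_zero_of_comp_a qY qa qb qc (n := n) (fun k hk => (qhP k hk).1) qh0 k hk _ (fun l hl => ?_) _ h2, comp_zero]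
    have := hv₂ (k + 1 - l) (k + 1) (by omega) (by omega) hk
    rw [show k + 1 - (k + 1 - l) = l by omega] at this
    exact this.shift (by omega)

include hP qh0 hy hz in
theorem top_unique (hv : ∀ i : ℕ, 1 ≤ i → i ≤ n → Van (X.X i) (qY n) i n) : y n = z n := by
  have key : ∀ k, k ≤ n → ∀ θ : (qY k)⟦(k : ℤ)⟧ ⟶ (qY n)⟦(n : ℤ)⟧, (y k - z k)⟦(k : ℤ)⟧' ≫ θ = 0 := by
    intro k
    induction k with
    | zero =>
      intro hk θ
      have : y 0 - z 0 = 0 := by rw [← cancel_mono (qa 0), Preadditive.sub_comp, hy.1 0 hk, hz.1 0 hk, sub_self, zero_comp]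
      rw [this, Functor.map_zero, zero_comp]
    | succ k ih =>
      intro hk θ
      let e := shiftFunctorAdd' D (1 : ℤ) (k : ℤ) ((k + 1 : ℕ) : ℤ) (by push_cast; omega)
      have hT := Triangle.shift_distinguished _ (rot_of_distTriang _ (rot_of_distTriang _ (hP k (by omega)).1)) (k : ℤ)
      let ψ := e.inv.app (Y (k + 1)) ≫ (y (k + 1) - z (k + 1))⟦((k + 1 : ℕ) : ℤ)⟧' ≫ θ
      have h1 : (c k)⟦(k : ℤ)⟧' ≫ ψ = 0 := by
        simp only [ψ]
        rw [← NatTrans.naturality_assoc, Functor.comp_map, ← Functor.map_comp_assoc, Functor.map_sub, Preadditive.comp_sub,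
          (hy.2 k (by omega)).2, (hz.2 k (by omega)).2, ← Preadditive.sub_comp, Functor.map_comp, Category.assoc]
        exact ih (by omega) _
      obtain ⟨g, hg⟩ := Triangle.yoneda_exact₂ _ hT ψ (by
        change ((k : ℤ).negOnePow • (c k)⟦(k : ℤ)⟧') ≫ ψ = 0
        rw [Linear.units_smul_comp, h1, smul_zero])
      have hg0 : g = 0 := eq_zero_of_isos (e.app (X.X (k + 1))) (Iso.refl _) (hv (k + 1) (by omega) hk) g
      rw [hg0] at hg
      rw [← cancel_epi (e.inv.app (Y (k + 1))), comp_zero]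
      exact hg.trans comp_zero
  have := key n le_rfl (𝟙 _)
  rw [Category.comp_id] at this
  exact sub_eq_zero.1 ((shiftFunctor D (n : ℤ)).map_injective (this.trans (Functor.map_zero _ _ _).symm))

end Groth.L10.Post
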